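import Cfsg.Agent.Lib.OutPresented.Search
import Cfsg.Prelude.Def_KGroupFacts

/-!
A criterion for an outer automorphism group of order two, for groups given by tables.

`u` generates a Sylow subgroup of prime order, `s` normalises it, and `w` commutes with a power of
`s`. After an inner automorphism every automorphism fixes `s` and sends `u` to `u` or `u ^ k'`, and
then `w` has only one possible image in either case.
-/

set_option autoImplicit false

namespace CfsgLib.OutPresented

open CfsgLib.SporRecognition.CosetCert (allBelow allBelow_spec iter invStep)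

/-- The three tables by index. -/
noncomputable def tri (a b c : Nat → Nat) (i : Nat) : Nat → Nat :=
  bif Nat.beq i 0 then a else bif Nat.beq i 1 then b else c

/-- The table of a word in three letters. -/
noncomputable def evW (a b c : Nat → Nat) (w : List Nat) : Nat → Nat :=
  List.rec (fun u => u) (fun l _ ih u => tri a b c l (ih u)) w

/-- The two tables agree on the base. -/
noncomputable def keyEq (base : List Nat) (P T : Nat → Nat) : Bool := allB (fun b => Nat.beq (P b) (T b)) base

/-- All relations (word, exponent) hold. -/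
noncomputable def relsH (base : List Nat) (rels : List (List Nat × Nat)) (a b c : Nat → Nat) : Bool :=
  allB (fun r : List Nat × Nat => keyEq base (iter (evW a b c r.1) r.2) (fun u => u)) rels

/-- Some index below the bound satisfies the test. -/
noncomputable def anyLt (f : Nat → Bool) (m : Nat) : Bool := !allLt (fun i => !f i) m

theorem anyLt_spec {f : Nat → Bool} {m : Nat} (h : anyLt f m = true) : ∃ i < m, f i = true := by
  by_contra hc
  push Not at hc
  have : allLt (fun i => !f i) m = true := allLt_spec.2 fun i hi => by simp [hc i hi]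
  simp [anyLt, this] at h

/-- The data of a rigidity certificate. -/
structure Data where
  n : Nat
  p : Nat
  k : Nat
  k' : Nat
  k'' : Nat
  jz : Nat
  base : List Nat
  rels : List (List Nat × Nat)
  U : Nat → Nat
  Ui : Nat → Nat
  S : Nat → Nat
  Si : Nat → Nat
  W : Nat → Nat
  Wi : Nat → Nat
  W' : Nat → Nat
  sig : Nat → Nat
  sigI : Nat → Nat
  planS : List Plan
  planN : List Plan
  planC : List Plan

namespace Data

variable (D : Data)

noncomputable def U' : Nat → Nat := iter D.U D.k'

noncomputable def Z : Nat → Nat := iter D.S D.jz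

/-- The relations of an element conjugating `u` to `u ^ e`. -/
noncomputable def consU (e : Nat) : List TPair :=
  [(D.U, iter D.U e), (iter D.U D.k, iter D.U (e * D.k))]

/-- The relations of an element commuting with `z`. -/
noncomputable def consC : List TPair := [(D.Z, D.Z)]

noncomputable def goodS (P : Nat → Nat) : Bool :=
  anyLt (fun j => keyEq D.base P fun b => iter D.U j (D.S (iter D.U (Nat.sub D.p j) b))) D.p

noncomputable def goodC (P : Nat → Nat) : Bool :=
  (bif relsH D.base D.rels D.U D.S P then keyEq D.base P D.W else true) &&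
    (bif relsH D.base D.rels D.U' D.S P then keyEq D.base P D.W' else true)

/-- Every nonzero residue is moved to `1` or `k'` by a power of `k`. -/
noncomputable def coverOK : Bool :=
  allLt (fun a => Nat.beq a 0 ||
    anyLt (fun j => Nat.beq (Nat.mod (Nat.mul a (Nat.pow D.k j)) D.p) 1 ||
      Nat.beq (Nat.mod (Nat.mul a (Nat.pow D.k j)) D.p) D.k') D.p) D.p

/-- The small facts. -/
noncomputable def basicOK : Bool :=
  keyEq D.base (iter D.U D.p) (fun u => u) && !keyEq D.base D.U (fun u => u) &&
    keyEq D.base (fun u => D.S (D.U u)) (fun u => iter D.U D.k (D.S u)) &&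
    keyEq D.base (fun u => D.W (D.Z u)) (fun u => D.Z (D.W u)) && relsH D.base D.rels D.U D.S D.W &&
    D.coverOK && Nat.beq (Nat.mod (Nat.mul D.k' D.k'') D.p) 1

/-- The permutation inducing the outer automorphism. -/
noncomputable def sigStep (u : Nat) : Bool :=
  Nat.blt (D.sig u) D.n && Nat.blt (D.sigI u) D.n && Nat.beq (D.sigI (D.sig u)) u &&
    Nat.beq (D.sig (D.sigI u)) u && Nat.beq (D.sig (D.U u)) (D.U' (D.sig u)) &&
    Nat.beq (D.sig (D.S u)) (D.S (D.sig u)) && Nat.beq (D.sig (D.W u)) (D.W' (D.sig u))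

/-- The checks. -/
structure Valid (d : Nat) : Prop where
  base_lt : allB (fun b => Nat.blt b D.n) D.base = true
  base_S : (D.planS.map fun q => q.L.b) = D.base
  base_N : (D.planN.map fun q => q.L.b) = D.base
  base_C : (D.planC.map fun q => q.L.b) = D.base
  basic : D.basicOK = true
  sig_ok : allBelow d D.n D.sigStep = true
  plan_S : planOK (D.consU D.k) D.planS [] = true
  plan_N : planOK (D.consU D.k') D.planN [] = true
  plan_C : planOK D.consC D.planC [] = true
  search_S : search (D.consU D.k) D.base D.goodS D.planS (fun x => x) (fun x => x) = true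
  search_N : search (D.consU D.k') D.base (fun _ => false) D.planN (fun x => x) (fun x => x) = true
  search_C : search D.consC D.base D.goodC D.planC (fun x => x) (fun x => x) = true

end Data

section

variable {G : Type*} [Group G] {n : Nat} {ψ : G →* Equiv.Perm (Fin n)}

theorem tab_evW {a b c : G} {A B C : Nat → Nat} (ha : Tab ψ a A) (hb : Tab ψ b B) (hc : Tab ψ c C) :
    ∀ w : List Nat, Tab ψ (w.map fun i => if i = 0 then a else if i = 1 then b else c).prod (evW A B C w)
  | [] => Tab.one
  | l :: w => by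
    rw [List.map_cons, List.prod_cons]
    refine (?_ : Tab ψ _ (tri A B C l)).mul (tab_evW ha hb hc w)
    match l with
    | 0 =>
      show Tab ψ _ A
      simpa using ha
    | 1 =>
      show Tab ψ _ B
      simpa using hb
    | l + 2 =>
      show Tab ψ _ C
      simpa using hc

theorem eq_of_keyEq [Finite G] (hinj : Function.Injective ψ) {H : Subgroup G} {Ls : List Level}
    (hc : Chain ψ H Ls []) (hN : Nat.card G ≤ prodLen Ls) {base : List Nat} (hb : Ls.map Level.b = base)
    {g h : G} {P T : Nat → Nat} (hg : Tab ψ g P) (hh : Tab ψ h T) :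
    keyEq base P T = true ↔ g = h := by
  constructor
  · intro hk
    refine inv_mul_eq_one.mp ?_
    exact decomp_eq_one hinj Ls [] hc _ ((decomp_all hc hN).2 (g⁻¹ * h)) fun p hp u hu => by
      have e := Nat.eq_of_beq_eq_true (allB_spec.1 hk p (hb ▸ hp))
      rw [map_mul, Equiv.Perm.mul_apply, show ψ h u = ψ g u from Fin.ext (by rw [hh, hg, hu, e]),
        ← Equiv.Perm.mul_apply, ← map_mul, inv_mul_cancel, map_one]
      rfl
  · rintro rfl
    refine allB_spec.2 fun b hbm => ?_
    have hbn : b < n := by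
      rw [← hb, List.mem_map] at hbm
      obtain ⟨L, hL, rfl⟩ := hbm
      clear hb hN
      revert hc
      generalize ([] : List Nat) = pts
      intro hc
      induction Ls generalizing pts with
      | nil => simp at hL
      | cons M Ms ih =>
        rcases List.mem_cons.1 hL with rfl | hL
        · have h0 := hc.1
          simp only [Level.orbOK, Bool.and_eq_true, Nat.blt_eq] at h0
          exact h0.1
        · exact ih hL _ hc.2.2
    exact Nat.beq_eq ▸ hg.eq_at hh hbn

end

variable {G : Type*} [Group G] [Finite G]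

theorem natCard_out_eq_two {D : Data} {d : Nat} (V : D.Valid d) {ψ : G →* Equiv.Perm (Fin D.n)}
    (hinj : Function.Injective ψ) [hp : Fact D.p.Prime] (hdvd : D.p ∣ Nat.card G)
    (hndvd : ¬ D.p ^ 2 ∣ Nat.card G) {u s w w' : G} (hu : Tab ψ u D.U) (hu' : Tab ψ u⁻¹ D.Ui)
    (hs : Tab ψ s D.S) (hs' : Tab ψ s⁻¹ D.Si) (hw : Tab ψ w D.W) (hw'' : Tab ψ w⁻¹ D.Wi) (hw' : Tab ψ w' D.W')
    (hchain : ∀ H : Subgroup G, Real ψ H [] (D.U, D.Ui) → Real ψ H [] (D.S, D.Si) → Real ψ H [] (D.W, D.Wi) →
      Chain ψ H (D.planS.map Plan.L) [] ∧ Chain ψ H (D.planN.map Plan.L) [] ∧ Chain ψ H (D.planC.map Plan.L) [])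
    (hN : Nat.card G ≤ prodLen (D.planS.map Plan.L) ∧ Nat.card G ≤ prodLen (D.planN.map Plan.L) ∧
      Nat.card G ≤ prodLen (D.planC.map Plan.L)) :
    Nat.card (Cfsg.Out G) = 2 := by
  classical
  obtain ⟨hNS, hNN, hNC⟩ := hN
  set H : Subgroup G := Subgroup.closure {u, s, w}
  obtain ⟨hcS, hcN, hcC⟩ := hchain H ⟨u, Subgroup.subset_closure (by simp), by simp [Fixes], hu, hu'⟩
    ⟨s, Subgroup.subset_closure (by simp), by simp [Fixes], hs, hs'⟩
    ⟨w, Subgroup.subset_closure (by simp), by simp [Fixes], hw, hw''⟩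
  have htop : H = ⊤ := (decomp_all hcS hNS).1
  have aut_ext : ∀ {φ χ : MulAut G}, φ u = χ u → φ s = χ s → φ w = χ w → φ = χ := by
    intro φ χ h1 h2 h3
    have hle : H ≤ φ.toMonoidHom.eqLocus χ.toMonoidHom := by
      rw [Subgroup.closure_le]
      intro x hx
      simp only [Set.mem_insert_iff, Set.mem_singleton_iff] at hx
      rcases hx with rfl | rfl | rfl
      exacts [h1, h2, h3]
    exact MulEquiv.ext fun g => hle (htop ▸ Subgroup.mem_top g)
  have hbS : (D.planS.map Plan.L).map Level.b = D.base := by rw [List.map_map]; exact V.base_S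
  have hbase : ∀ b ∈ D.base, b < D.n := fun b hb => by
    simpa [Nat.blt_eq] using allB_spec.1 V.base_lt b hb
  have key : ∀ {g h : G} {P T : Nat → Nat}, Tab ψ g P → Tab ψ h T → (keyEq D.base P T = true ↔ g = h) :=
    fun hg hh => eq_of_keyEq hinj hcS hNS hbS hg hh
  have V1 := V.basic
  simp only [Data.basicOK, Bool.and_eq_true, Bool.not_eq_true'] at V1
  obtain ⟨⟨⟨⟨⟨⟨hup, hune⟩, hsu⟩, hwz⟩, hrel⟩, hcov⟩, hk''⟩ := V1
  have hup' : u ^ D.p = 1 := (key (hu.iter _) Tab.one).1 hup
  have hune' : u ≠ 1 := fun e => by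
    rw [(key hu Tab.one).2 e] at hune
    exact absurd hune (by simp)
  have hord : orderOf u = D.p := orderOf_eq_prime hup' hune'
  have hsu' : s * u = u ^ D.k * s := (key (hs.mul hu) ((hu.iter _).mul hs)).1 hsu
  set z : G := s ^ D.jz
  have hz : Tab ψ z D.Z := hs.iter _
  have hwz' : w * z = z * w := (key (hw.mul hz) (hz.mul hw)).1 hwz
  have hU' : Tab ψ (u ^ D.k') D.U' := hu.iter _
  -- relations
  let ev : G → G → G → List Nat → G := fun a b c l =>
    (l.map fun i => if i = 0 then a else if i = 1 then b else c).prod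
  have rels_iff : ∀ {a b c : G} {A B C : Nat → Nat}, Tab ψ a A → Tab ψ b B → Tab ψ c C →
      (relsH D.base D.rels A B C = true ↔ ∀ r ∈ D.rels, ev a b c r.1 ^ r.2 = 1) := by
    intro a b c A B C ha hb hc
    rw [relsH, allB_spec]
    exact forall₂_congr fun r _ => key ((tab_evW ha hb hc r.1).iter r.2) Tab.one
  have ev_map : ∀ (φ : MulAut G) (a b c : G) (l : List Nat), φ (ev a b c l) = ev (φ a) (φ b) (φ c) l := by
    intro φ a b c l
    simp only [ev, map_list_prod, List.map_map]
    congr 1
    refine List.map_congr_left fun i _ => ?_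
    simp only [Function.comp_apply]
    split_ifs <;> rfl
  -- the elements conjugating u to u ^ e
  have satU : ∀ {g : G} (e : Nat), g * u = u ^ e * g → SatAll ψ g (D.consU e) := by
    intro g e hge c hc
    simp only [Data.consU, List.mem_cons, List.not_mem_nil, or_false] at hc
    rcases hc with rfl | rfl
    · exact ⟨u, u ^ e, hu, hu.iter _, hge⟩
    · refine ⟨u ^ D.k, u ^ (e * D.k), hu.iter _, hu.iter _, ?_⟩
      have : SemiconjBy g u (u ^ e) := hge
      rw [pow_mul]
      exact this.pow_right D.k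
  have findS : ∀ g : G, g * u = u ^ D.k * g → ∃ j, j ≤ D.p ∧ g = u ^ j * (s * u ^ (D.p - j)) := by
    intro g hg
    obtain ⟨P, hP, hgood⟩ := search_complete hinj hbase (satU _ hg) hcS hNS V.plan_S V.search_S
    obtain ⟨j, hj, hjk⟩ := anyLt_spec hgood
    exact ⟨j, hj.le, (key hP ((hu.iter j).mul (hs.mul (hu.iter (D.p - j))))).1 hjk⟩
  have noN : ∀ g : G, g * u ≠ u ^ D.k' * g := by
    intro g hg
    obtain ⟨P, -, hgood⟩ := search_complete hinj hbase (satU _ hg) hcN hNN V.plan_N V.search_N
    exact absurd hgood (by simp)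
  have findC : ∀ g : G, g * z = z * g →
      ((∀ r ∈ D.rels, ev u s g r.1 ^ r.2 = 1) → g = w) ∧
      ((∀ r ∈ D.rels, ev (u ^ D.k') s g r.1 ^ r.2 = 1) → g = w') := by
    intro g hg
    have hsat : SatAll ψ g D.consC := fun c hc => by
      simp only [Data.consC, List.mem_singleton] at hc
      subst hc
      exact ⟨z, z, hz, hz, hg⟩
    obtain ⟨P, hP, hgood⟩ := search_complete hinj hbase hsat hcC hNC V.plan_C V.search_C
    simp only [Data.goodC, Bool.and_eq_true] at hgood
    refine ⟨fun h => ?_, fun h => ?_⟩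
    · have h1 := hgood.1
      rw [(rels_iff hu hs hP).2 h, cond_true] at h1
      exact (key hP hw).1 h1
    · have h1 := hgood.2
      rw [(rels_iff hU' hs hP).2 h, cond_true] at h1
      exact (key hP hw').1 h1
  -- normal form
  have normal : ∀ φ : MulAut G, ∃ g : G, ∃ e ∈ [1, D.k'],
      (MulAut.conj g * φ) u = u ^ e ∧ (MulAut.conj g * φ) s = s ∧
      (MulAut.conj g * φ) w = if e = 1 then w else w' := by
    intro φ
    have hcz : Nat.card (Subgroup.zpowers u) = D.p ^ (Nat.card G).factorization D.p := by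
      rw [Nat.card_zpowers, hord]
      have h1 : 1 ≤ (Nat.card G).factorization D.p := hp.out.factorization_pos_of_dvd Nat.card_pos.ne' hdvd
      have h2 : ¬ 2 ≤ (Nat.card G).factorization D.p := fun h =>
        hndvd ((hp.out.pow_dvd_iff_le_factorization Nat.card_pos.ne').2 h)
      rw [show (Nat.card G).factorization D.p = 1 by omega, pow_one]
    have hcz' : Nat.card ((Subgroup.zpowers u).map φ.toMonoidHom) = D.p ^ (Nat.card G).factorization D.p := by
      rw [← hcz]
      exact (Nat.card_congr ((Subgroup.zpowers u).equivMapOfInjective _ φ.injective).toEquiv).symm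
    obtain ⟨c, hc⟩ := MulAction.exists_smul_eq G (Sylow.ofCard _ hcz') (Sylow.ofCard _ hcz)
    have hmem : MulAut.conj c (φ u) ∈ Subgroup.zpowers u := by
      have h1 : ((c • Sylow.ofCard _ hcz' : Sylow D.p G) : Subgroup G) = Subgroup.zpowers u := by rw [hc]; rfl
      rw [← h1, Sylow.coe_subgroup_smul]
      exact ⟨φ u, ⟨u, Subgroup.mem_zpowers u, rfl⟩, rfl⟩
    rw [mem_zpowers_iff_mem_range_orderOf, Finset.mem_image] at hmem
    obtain ⟨a, ha, hau⟩ := hmem
    rw [Finset.mem_range, hord] at ha
    have hmod : ∀ m : Nat, u ^ m = u ^ (m % D.p) := fun m => pow_eq_pow_mod m hup'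
    have ha0 : a ≠ 0 := fun e => hune' (by
      have hau' : MulAut.conj c (φ u) = 1 := by rw [← hau, e, pow_zero]
      simpa using hau')
    obtain ⟨j, hj, hje⟩ := anyLt_spec (Or.resolve_left (Bool.or_eq_true_iff.1 (allLt_spec.1 hcov a ha))
      fun e => ha0 (Nat.eq_of_beq_eq_true e))
    set e := (a * D.k ^ j) % D.p with hedef
    have he : e ∈ [1, D.k'] := by
      rcases Bool.or_eq_true_iff.1 hje with h | h
      · exact List.mem_cons.2 (Or.inl (Nat.eq_of_beq_eq_true h))
      · exact List.mem_cons.2 (Or.inr (List.mem_singleton.2 (Nat.eq_of_beq_eq_true h)))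
    have hconj : ∀ (i m : Nat), s ^ i * u ^ m * (s ^ i)⁻¹ = u ^ (m * D.k ^ i) := by
      intro i
      induction i with
      | zero => intro m; simp
      | succ i ih =>
        intro m
        have h1 : s * u ^ m * s⁻¹ = u ^ (D.k * m) := by
          rw [pow_mul, ← conj_pow, hsu', mul_inv_cancel_right]
        rw [pow_succ, mul_inv_rev,
          show s ^ i * s * u ^ m * (s⁻¹ * (s ^ i)⁻¹) = s ^ i * (s * u ^ m * s⁻¹) * (s ^ i)⁻¹ by group,
          h1, ih]
        congr 1
        ring
    set φ2 : MulAut G := MulAut.conj (s ^ j * c) * φ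
    have hφ2u : φ2 u = u ^ e := by
      show MulAut.conj (s ^ j * c) (φ u) = _
      rw [map_mul, MulAut.mul_apply, ← hau, MulAut.conj_apply, hconj, hmod]
    obtain ⟨e', he'⟩ : ∃ e' : Nat, (u ^ e) ^ e' = u := by
      simp only [List.mem_cons, List.not_mem_nil, or_false] at he
      rcases he with h | h
      · exact ⟨1, by rw [h, pow_one, pow_one]⟩
      · refine ⟨D.k'', ?_⟩
        rw [h, ← pow_mul, hmod, show D.k' * D.k'' % D.p = 1 from Nat.eq_of_beq_eq_true hk'', pow_one]
    have hsx : φ2 s * u = u ^ D.k * φ2 s := by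
      have h1 := congrArg φ2 hsu'
      rw [map_mul, map_mul, map_pow, hφ2u] at h1
      have h2 : SemiconjBy (φ2 s) (u ^ e) ((u ^ e) ^ D.k) := h1
      have h3 := h2.pow_right e'
      rw [← pow_mul (u ^ e) D.k e', Nat.mul_comm D.k e', pow_mul, he'] at h3
      exact h3
    obtain ⟨i, hi, hie⟩ := findS _ hsx
    set φ3 : MulAut G := MulAut.conj (u ^ (D.p - i)) * φ2
    have hpi : u ^ (D.p - i) * u ^ i = 1 := by rw [← pow_add, Nat.sub_add_cancel hi, hup']
    have hinvp : (u ^ (D.p - i))⁻¹ = u ^ i := inv_eq_of_mul_eq_one_right hpi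
    have hφ3u : φ3 u = u ^ e := by
      show MulAut.conj (u ^ (D.p - i)) (φ2 u) = _
      rw [hφ2u, MulAut.conj_apply, ← pow_add, Nat.add_comm, pow_add, mul_inv_cancel_right]
    have hφ3s : φ3 s = s := by
      show MulAut.conj (u ^ (D.p - i)) (φ2 s) = _
      rw [hie, MulAut.conj_apply, hinvp,
        show u ^ (D.p - i) * (u ^ i * (s * u ^ (D.p - i))) * u ^ i =
          (u ^ (D.p - i) * u ^ i) * s * (u ^ (D.p - i) * u ^ i) by group, hpi, one_mul, mul_one]
    have hφ3z : φ3 w * z = z * φ3 w := by
      have h1 := congrArg φ3 hwz'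
      rwa [map_mul, map_mul, map_pow, hφ3s] at h1
    have hr : ∀ r ∈ D.rels, ev (u ^ e) s (φ3 w) r.1 ^ r.2 = 1 := fun r hr => by
      rw [← hφ3u, ← congrArg (fun x => ev (φ3 u) x (φ3 w) r.1) hφ3s, ← ev_map, ← map_pow,
        (rels_iff hu hs hw).1 hrel r hr, map_one]
    refine ⟨u ^ (D.p - i) * (s ^ j * c), e, he, ?_⟩
    rw [show MulAut.conj (u ^ (D.p - i) * (s ^ j * c)) * φ = φ3 by rw [map_mul, mul_assoc]]
    refine ⟨hφ3u, hφ3s, ?_⟩
    by_cases h : e = 1
    · rw [if_pos h]
      rw [h, pow_one] at hr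
      exact (findC _ hφ3z).1 hr
    · rw [if_neg h]
      simp only [List.mem_cons, List.not_mem_nil, or_false] at he
      rw [he.resolve_left h] at hr
      exact (findC _ hφ3z).2 hr
  -- the outer automorphism
  have hsig := fun u hu => allBelow_spec V.sig_ok u hu
  simp only [Data.sigStep, Bool.and_eq_true, Nat.blt_eq] at hsig
  let σ : Equiv.Perm (Fin D.n) :=
    { toFun := fun x => ⟨D.sig x, (hsig x x.2).1.1.1.1.1.1⟩
      invFun := fun x => ⟨D.sigI x, (hsig x x.2).1.1.1.1.1.2⟩
      left_inv := fun x => Fin.ext (Nat.eq_of_beq_eq_true (hsig x x.2).1.1.1.1.2)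
      right_inv := fun x => Fin.ext (Nat.eq_of_beq_eq_true (hsig x x.2).1.1.1.2) }
  let f : G →* Equiv.Perm (Fin D.n) := (MulAut.conj σ).toMonoidHom.comp ψ
  have himg : ∀ (g h : G) (A B : Nat → Nat), Tab ψ g A → Tab ψ h B →
      (∀ x, x < D.n → D.sig (A x) = B (D.sig x)) → f g = ψ h := by
    intro g h A B hg hh hAB
    show σ * ψ g * σ⁻¹ = ψ h
    rw [mul_inv_eq_iff_eq_mul]
    refine Equiv.ext fun x => Fin.ext ?_
    show D.sig ((ψ g x : Fin D.n) : Nat) = ((ψ h ⟨D.sig x, _⟩ : Fin D.n) : Nat)
    rw [hg, hh]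
    exact hAB x x.2
  have hfu := himg u (u ^ D.k') _ _ hu hU' fun x hx => Nat.eq_of_beq_eq_true (hsig x hx).1.1.2
  have hfs := himg s s _ _ hs hs fun x hx => Nat.eq_of_beq_eq_true (hsig x hx).1.2
  have hfw := himg w w' _ _ hw hw' fun x hx => Nat.eq_of_beq_eq_true (hsig x hx).2
  have hrange : ∀ x, f x ∈ ψ.range := by
    have hle : H ≤ ψ.range.comap f := by
      rw [Subgroup.closure_le]
      intro x hx
      simp only [Set.mem_insert_iff, Set.mem_singleton_iff] at hx
      rcases hx with rfl | rfl | rfl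
      exacts [⟨_, hfu.symm⟩, ⟨_, hfs.symm⟩, ⟨_, hfw.symm⟩]
    exact fun x => hle (htop ▸ Subgroup.mem_top x)
  let iso : G ≃* ψ.range := MonoidHom.ofInjective hinj
  let α₀ : G →* G := iso.symm.toMonoidHom.comp (f.codRestrict _ hrange)
  have hα : ∀ x, ψ (α₀ x) = f x := fun x => congrArg Subtype.val (iso.apply_symm_apply ⟨f x, hrange x⟩)
  have hαinj : Function.Injective α₀ := fun a b h => by
    apply hinj
    apply (MulAut.conj σ).injective
    show f a = f b
    rw [← hα, ← hα, h]
  let α : MulAut G := MulEquiv.ofBijective α₀ ⟨hαinj, Finite.surjective_of_injective hαinj⟩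
  have hαu : α u = u ^ D.k' := hinj ((hα u).trans hfu)
  have hαs : α s = s := hinj ((hα s).trans hfs)
  have hαw : α w = w' := hinj ((hα w).trans hfw)
  have hk1 : D.k' ≠ 1 := fun e => noN 1 (by rw [e, pow_one, one_mul, mul_one])
  have hnin : α ∉ Cfsg.Inn G := by
    rintro ⟨g, hg⟩
    refine noN g ?_
    rw [← hαu, ← hg, MulAut.conj_apply, inv_mul_cancel_right]
  rw [Nat.card_eq_two_iff]
  refine ⟨QuotientGroup.mk 1, QuotientGroup.mk α, fun h => hnin ?_, Set.eq_univ_of_forall fun x => ?_⟩
  · rw [QuotientGroup.eq, inv_one, one_mul] at h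
    exact h
  induction x using QuotientGroup.induction_on with
  | H φ =>
    simp only [Set.mem_insert_iff, Set.mem_singleton_iff]
    obtain ⟨g, e, he, h1, h2, h3⟩ := normal φ
    have hinn : (QuotientGroup.mk (MulAut.conj g * φ) : Cfsg.Out G) = QuotientGroup.mk φ := by
      rw [QuotientGroup.eq, mul_inv_rev]
      exact (Cfsg.innNormal G).conj_mem' _ (inv_mem ⟨g, rfl⟩) φ
    rw [← hinn]
    simp only [List.mem_cons, List.not_mem_nil, or_false] at he
    rcases he with rfl | rfl
    · exact Or.inl (congrArg _ (aut_ext (by rw [h1, pow_one]; rfl) (by rw [h2]; rfl)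
        (by rw [h3, if_pos rfl]; rfl)))
    · exact Or.inr (congrArg _ (aut_ext (h1.trans hαu.symm) (h2.trans hαs.symm)
        (by rw [h3, if_neg hk1, hαw])))

end CfsgLib.OutPresented
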