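import Cfsg.Agent.Lib.OutPresented.Tables

/-!
Backtrack search, checked by the kernel, for the elements intertwining given elements.
-/

set_option autoImplicit false

namespace CfsgLib.OutPresented

/-- Membership in a list of naturals. -/
noncomputable def memB (x : Nat) (l : List Nat) : Bool := List.rec false (fun y _ ih => Nat.beq x y || ih) l

theorem memB_spec {x : Nat} {l : List Nat} : memB x l = true ↔ x ∈ l := by
  induction l with
  | nil => simp [memB]
  | cons y l ih =>
    show (Nat.beq x y || memB x l) = true ↔ _
    simp [Bool.or_eq_true, ih]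

/-- All elements of a list satisfy the test. -/
noncomputable def allB {α : Type} (f : α → Bool) (l : List α) : Bool :=
  List.rec true (fun y _ ih => f y && ih) l

theorem allB_spec {α : Type} {f : α → Bool} {l : List α} : allB f l = true ↔ ∀ x ∈ l, f x = true := by
  induction l with
  | nil => simp [allB]
  | cons y l ih =>
    show (f y && allB f l) = true ↔ _
    simp [Bool.and_eq_true, ih]

/-- All indices below a bound satisfy the test. -/
noncomputable def allLt (f : Nat → Bool) (m : Nat) : Bool := Nat.rec true (fun i ih => f i && ih) m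

theorem allLt_spec {f : Nat → Bool} {m : Nat} : allLt f m = true ↔ ∀ i < m, f i = true := by
  induction m with
  | zero => simp [allLt]
  | succ m ih =>
    show (f m && allLt f m) = true ↔ _
    rw [Bool.and_eq_true, ih]
    exact ⟨fun h i hi => (Nat.lt_succ_iff_lt_or_eq.1 hi).elim (h.2 i) fun e => e ▸ h.1,
      fun h => ⟨h m (Nat.lt_succ_self m), fun i hi => h i (Nat.lt_succ_of_lt hi)⟩⟩

/-- Evaluate the argument before use. -/
noncomputable def forceNat (x : Nat) (k : Nat → Bool) : Bool := Nat.rec (k 0) (fun m _ => k (Nat.add m 1)) x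

theorem forceNat_eq (x : Nat) (k : Nat → Bool) : forceNat x k = k x := by cases x <;> rfl

/-- A level together with the relations used there: a forced value and prunings. -/
structure Plan where
  L : Level
  frc : Option (Nat × Nat)
  chk : List (Nat × Nat)

/-- The relation number `i` holds at `b` for the partial map. -/
noncomputable def relAt (cons : List TPair) (P : Nat → Nat) (i b : Nat) : Bool :=
  Nat.beq (P (pickF cons i b)) (pickI cons i (P b))

/-- The search. -/
noncomputable def search (cons : List TPair) (base : List Nat) (good : (Nat → Nat) → Bool) (ps : List Plan) :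
    (Nat → Nat) → (Nat → Nat) → Bool :=
  List.rec
    (fun P _ => bif allLt (fun i => allB (relAt cons P i) base) cons.length then good P else true)
    (fun p _ ih P Q =>
      let body := fun q =>
        bif allB (fun c : Nat × Nat => relAt cons (fun x => P (p.L.rep p.L.depth q x)) c.1 c.2) p.chk then
          ih (fun x => P (p.L.rep p.L.depth q x)) (fun x => p.L.repI p.L.depth q (Q x))
        else true
      Option.rec (allB body p.L.orb)
        (fun c => forceNat (Q (pickI cons c.1 (P c.2))) fun q => bif memB q p.L.orb then body q else true) p.frc)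
    ps

/-- The relations used by the plan only involve the base points met so far. -/
noncomputable def planOK (cons : List TPair) (ps : List Plan) : List Nat → Bool :=
  List.rec (fun _ => true)
    (fun p _ ih pts =>
      Option.rec true (fun c => memB c.2 pts && Nat.beq (pickF cons c.1 c.2) p.L.b) p.frc &&
      allB (fun c : Nat × Nat => memB c.2 (pts ++ [p.L.b]) && memB (pickF cons c.1 c.2) (pts ++ [p.L.b])) p.chk &&
      ih (pts ++ [p.L.b])) ps

variable {G : Type*} [Group G] {n : Nat} (ψ : G →* Equiv.Perm (Fin n))

/-- `g` carries the first table to the second one. -/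
def Sat (g : G) (X Y : Nat → Nat) : Prop := ∃ x y : G, Tab ψ x X ∧ Tab ψ y Y ∧ g * x = y * g

/-- `g` satisfies all relations. -/
def SatAll (g : G) (cons : List TPair) : Prop := ∀ c ∈ cons, Sat ψ g c.1 c.2

variable {ψ} {H : Subgroup G}

theorem SatAll.pick {g : G} {cons : List TPair} (h : SatAll ψ g cons) (i : Nat) :
    Sat ψ g (pickF cons i) (pickI cons i) := by
  rcases pick_spec cons i with ⟨c, hc, e⟩ | e
  · obtain ⟨x, y, hx, hy, hxy⟩ := h c hc
    exact ⟨x, y, hx.congr fun u _ => (e u).1.symm, hy.congr fun u _ => (e u).2.symm, hxy⟩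
  · exact ⟨1, 1, Tab.one.congr fun u _ => (e u).1.symm, Tab.one.congr fun u _ => (e u).2.symm, by simp⟩

theorem Sat.apply {g : G} {X Y : Nat → Nat} (h : Sat ψ g X Y) {b : Nat} (hb : b < n) (hX : X b < n) :
    ((ψ g ⟨X b, hX⟩ : Fin n) : Nat) = Y (ψ g ⟨b, hb⟩ : Fin n) := by
  obtain ⟨x, y, hx, hy, hxy⟩ := h
  have hxb : ψ x ⟨b, hb⟩ = ⟨X b, hX⟩ := Fin.ext (hx ⟨b, hb⟩)
  rw [← hxb, ← Equiv.Perm.mul_apply, ← map_mul, hxy, map_mul, Equiv.Perm.mul_apply, hy]

theorem Sat.lt {g : G} {X Y : Nat → Nat} (h : Sat ψ g X Y) {b : Nat} (hb : b < n) : X b < n := by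
  obtain ⟨x, -, hx, -, -⟩ := h
  exact hx.lt hb

theorem search_sound (hinj : Function.Injective ψ) {cons : List TPair} {base : List Nat}
    (hbase : ∀ b ∈ base, b < n) {good : (Nat → Nat) → Bool} {g : G} (hg : SatAll ψ g cons) :
    ∀ (ps : List Plan) (pts : List Nat), Chain ψ H (ps.map Plan.L) pts → planOK cons ps pts = true →
      (∀ b ∈ pts, b < n) →
      ∀ (P Q : Nat → Nat) (p h : G), Tab ψ p P → Tab ψ p⁻¹ Q → Decomp ψ (ps.map Plan.L) h → g = p * h →
        search cons base good ps P Q = true → ∃ P', Tab ψ g P' ∧ good P' = true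
  | [], _, _, _, _, P, Q, p, h, hP, _, hh, he, hs => by
    rw [show h = 1 from hh, mul_one] at he
    subst he
    refine ⟨P, hP, ?_⟩
    have hall : allLt (fun i => allB (relAt cons P i) base) cons.length = true := by
      rw [allLt_spec]
      refine fun i _ => allB_spec.2 fun b hb => ?_
      have hS := hg.pick i
      have := hS.apply (hbase b hb) (hS.lt (hbase b hb))
      rw [hP, hP] at this
      simpa [relAt] using this
    have hs' : (bif allLt (fun i => allB (relAt cons P i) base) cons.length then good P else true) = true := hs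
    rwa [hall, cond_true] at hs'
  | pl :: ps, pts, ⟨horb, hgens, hrest⟩, hok, hpts, P, Q, p, h, hP, hQ, hh, he, hs => by
    obtain ⟨q, hq, r, h', hr, hr', rfl, hh'⟩ := hh
    simp only [Level.orbOK, Bool.and_eq_true] at horb
    have hb' : pl.L.b < n := by simpa [Nat.blt_eq] using horb.1
    have hqr : pl.L.rep pl.L.depth q pl.L.b = q := by
      have h3 := ((incAll_spec _ _ _ horb.2).2 q hq).2
      simp only [Bool.and_eq_true] at h3
      exact Nat.eq_of_beq_eq_true h3.2
    have hok' : (Option.rec true (fun c => memB c.2 pts && Nat.beq (pickF cons c.1 c.2) pl.L.b) pl.frc &&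
      allB (fun c : Nat × Nat => memB c.2 (pts ++ [pl.L.b]) && memB (pickF cons c.1 c.2) (pts ++ [pl.L.b])) pl.chk &&
      planOK cons ps (pts ++ [pl.L.b])) = true := hok
    simp only [Bool.and_eq_true] at hok'
    obtain ⟨⟨hfr, hchk⟩, hok2⟩ := hok'
    have hfix' : Fixes ψ h' (pts ++ [pl.L.b]) := decomp_fixes hinj _ _ hrest h' hh'
    obtain ⟨r₁, -, hrF, hr₁, -⟩ := exists_rep (L := pl.L) hgens pl.L.depth q
    rw [← Tab.ext hinj hr hr₁] at hrF
    have hPr := hP.mul hr
    have hval : ∀ b ∈ pts ++ [pl.L.b], ∀ hb : b < n,
        ((ψ g ⟨b, hb⟩ : Fin n) : Nat) = P (pl.L.rep pl.L.depth q b) := by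
      intro b hb hbn
      rw [he, ← mul_assoc, map_mul, Equiv.Perm.mul_apply, hfix' b hb ⟨b, hbn⟩ rfl, hPr]
    have hpts' : ∀ b ∈ pts ++ [pl.L.b], b < n := fun b hb => by
      rcases List.mem_append.1 hb with hb | hb
      · exact hpts b hb
      · rw [List.mem_singleton] at hb
        exact hb ▸ hb'
    have hrec : search cons base good ps (fun x => P (pl.L.rep pl.L.depth q x))
        (fun x => pl.L.repI pl.L.depth q (Q x)) = true := by
      have hbody : allB (fun c : Nat × Nat => relAt cons (fun x => P (pl.L.rep pl.L.depth q x)) c.1 c.2) pl.chk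
          = true := by
        refine allB_spec.2 fun c hc => ?_
        have hc' := allB_spec.1 hchk c hc
        simp only [Bool.and_eq_true, memB_spec] at hc'
        have hb := hpts' _ hc'.1
        have hX := hpts' _ hc'.2
        have := (hg.pick c.1).apply hb hX
        rw [hval _ hc'.2 hX, hval _ hc'.1 hb] at this
        simpa [relAt] using this
      set body := fun q => bif allB (fun c : Nat × Nat => relAt cons (fun x => P (pl.L.rep pl.L.depth q x)) c.1 c.2)
          pl.chk then search cons base good ps (fun x => P (pl.L.rep pl.L.depth q x))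
            (fun x => pl.L.repI pl.L.depth q (Q x)) else true with hbodydef
      have hq1 : body q = true := by
        have hs' : Option.rec (allB body pl.L.orb)
            (fun c => forceNat (Q (pickI cons c.1 (P c.2))) fun q => bif memB q pl.L.orb then body q else true)
            pl.frc = true := hs
        rcases hfc : pl.frc with _ | ⟨i, b⟩
        · rw [hfc] at hs'
          exact allB_spec.1 hs' q hq
        · rw [hfc] at hs' hfr
          simp only [Bool.and_eq_true, memB_spec] at hfr
          obtain ⟨hbm, hXb⟩ := hfr
          have hXb' : pickF cons i b = pl.L.b := Nat.eq_of_beq_eq_true hXb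
          have hb := hpts b hbm
          have hX : pickF cons i b < n := hXb' ▸ hb'
          have h1 := (hg.pick i).apply hb hX
          have hrb : pl.L.rep pl.L.depth q b = b := by
            rw [← hr ⟨b, hb⟩, hrF b hbm ⟨b, hb⟩ rfl]
          rw [hval (pickF cons i b) (by rw [hXb']; simp) hX, hval b (List.mem_append_left _ hbm) hb,
            hXb', hqr, hrb] at h1
          have h2 : Q (pickI cons i (P b)) = q := by
            have hqn : q < n := hqr ▸ hr.lt hb'
            have h3 : p⁻¹ * p = 1 := inv_mul_cancel p
            have h4 := (hQ.mul hP) ⟨q, hqn⟩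
            rw [h3, map_one] at h4
            simp only [Equiv.Perm.one_apply] at h4
            rw [← h1]
            exact h4.symm
          simp only [forceNat_eq, h2, memB_spec.2 hq, cond_true] at hs'
          exact hs'
      rw [hbodydef] at hq1
      simp only [hbody, cond_true] at hq1
      exact hq1
    refine search_sound hinj hbase hg ps _ hrest hok2 hpts' _ _ (p * r) h' hPr ?_ hh' (by rw [he, mul_assoc]) hrec
    rw [mul_inv_rev]
    exact hr'.mul hQ

/-- The search finds every element satisfying the relations. -/
theorem search_complete [Finite G] (hinj : Function.Injective ψ) {cons : List TPair} {base : List Nat}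
    (hbase : ∀ b ∈ base, b < n) {good : (Nat → Nat) → Bool} {g : G} (hg : SatAll ψ g cons) {ps : List Plan}
    (hc : Chain ψ H (ps.map Plan.L) []) (hN : Nat.card G ≤ prodLen (ps.map Plan.L))
    (hok : planOK cons ps [] = true) (hs : search cons base good ps (fun x => x) (fun x => x) = true) :
    ∃ P, Tab ψ g P ∧ good P = true :=
  search_sound hinj hbase hg ps [] hc hok (fun _ h => absurd h (List.not_mem_nil)) _ _ 1 g Tab.one
    (by rw [inv_one]; exact Tab.one) ((decomp_all hc hN).2 g) (one_mul g).symm hs

end CfsgLib.OutPresented
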