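import Cfsg.Agent.Lib.SporRecognition.CosetCert.Tables

/-!
Base-and-transversal data for permutation groups given by tables, and a verified backtrack search
over the elements of such a group that intertwine given elements.
-/

set_option autoImplicit false

namespace CfsgLib.OutPresented

open CfsgLib.SporRecognition.CosetCert (allBelow allBelow_spec iter trace)

/-- A table together with the table of the inverse. -/
abbrev TPair := (Nat → Nat) × (Nat → Nat)

/-- The `j`-th table of a list, the identity if there is none. -/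
noncomputable def pickF (l : List TPair) : Nat → Nat → Nat :=
  List.rec (fun _ u => u) (fun p _ ih j u => bif Nat.beq j 0 then p.1 u else ih (Nat.sub j 1) u) l

/-- The inverse of the `j`-th table of a list, the identity if there is none. -/
noncomputable def pickI (l : List TPair) : Nat → Nat → Nat :=
  List.rec (fun _ u => u) (fun p _ ih j u => bif Nat.beq j 0 then p.2 u else ih (Nat.sub j 1) u) l

theorem pick_spec (l : List TPair) (j : Nat) :
    (∃ p ∈ l, ∀ u, pickF l j u = p.1 u ∧ pickI l j u = p.2 u) ∨ ∀ u, pickF l j u = u ∧ pickI l j u = u := by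
  induction l generalizing j with
  | nil => exact Or.inr fun u => ⟨rfl, rfl⟩
  | cons p l ih =>
    cases j with
    | zero => exact Or.inl ⟨p, List.mem_cons_self .., fun u => ⟨rfl, rfl⟩⟩
    | succ j =>
      rcases ih j with ⟨q, hq, h⟩ | h
      · exact Or.inl ⟨q, List.mem_cons_of_mem _ hq, fun u => h u⟩
      · exact Or.inr fun u => h u

/-- A level of a stabiliser chain: base point, generators, Schreier tree, orbit. -/
structure Level where
  b : Nat
  gens : List TPair
  via : Nat → Nat
  src : Nat → Nat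
  orb : List Nat
  depth : Nat

/-- The transversal element sending the base point to `q`. -/
noncomputable def Level.rep (L : Level) : Nat → Nat → Nat → Nat :=
  fun d => Nat.rec (fun _ x => x)
    (fun _ ih q x => bif Nat.beq q L.b then x else pickF L.gens (L.via q) (ih (L.src q) x)) d

/-- The inverse of the transversal element sending the base point to `q`. -/
noncomputable def Level.repI (L : Level) : Nat → Nat → Nat → Nat :=
  fun d => Nat.rec (fun _ x => x)
    (fun _ ih q x => bif Nat.beq q L.b then x else ih (L.src q) (pickI L.gens (L.via q) x)) d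

/-- The entries are increasing, start at least at `lo` and each satisfies `f`. -/
noncomputable def incAll (f : Nat → Bool) (l : List Nat) : Nat → Bool :=
  List.rec (fun _ => true) (fun x _ ih lo => Nat.ble lo x && f x && ih (Nat.add x 1)) l

theorem incAll_spec (f : Nat → Bool) (l : List Nat) (lo : Nat) (h : incAll f l lo = true) :
    l.Nodup ∧ ∀ x ∈ l, lo ≤ x ∧ f x = true := by
  induction l generalizing lo with
  | nil => simp
  | cons x l ih =>
    have h' : (Nat.ble lo x = true ∧ f x = true) ∧ incAll f l (x + 1) = true := by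
      simpa [incAll, Bool.and_eq_true] using h
    obtain ⟨⟨h1, h2⟩, h3⟩ := h'
    obtain ⟨hn, ha⟩ := ih _ h3
    refine ⟨List.nodup_cons.2 ⟨fun hx => absurd (ha x hx).1 (by omega), hn⟩, fun y hy => ?_⟩
    rcases List.mem_cons.1 hy with rfl | hy
    · exact ⟨Nat.le_of_ble_eq_true h1, h2⟩
    · exact ⟨le_trans (Nat.le_of_ble_eq_true h1) (le_trans (Nat.le_succ x) (ha y hy).1), (ha y hy).2⟩

/-- The orbit entries are reached by their transversal elements. -/
noncomputable def Level.orbOK (L : Level) (n : Nat) : Bool :=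
  Nat.blt L.b n && incAll (fun q => Nat.blt q n && Nat.beq (L.rep L.depth q L.b) q) L.orb 0

variable {G : Type*} [Group G] {n : Nat} (ψ : G →* Equiv.Perm (Fin n))

/-- The element acts as the table. -/
def Tab (g : G) (t : Nat → Nat) : Prop := ∀ u : Fin n, ((ψ g u : Fin n) : Nat) = t u

/-- The element fixes the listed points. -/
def Fixes (g : G) (pts : List Nat) : Prop := ∀ p ∈ pts, ∀ u : Fin n, (u : Nat) = p → ψ g u = u

variable {ψ}

theorem Tab.one : Tab ψ (1 : G) fun u => u := fun u => by simp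

theorem Tab.mul {g h : G} {s t : Nat → Nat} (hg : Tab ψ g s) (hh : Tab ψ h t) :
    Tab ψ (g * h) (fun u => s (t u)) := fun u => by
  rw [map_mul, Equiv.Perm.mul_apply, hg, hh]

theorem Tab.congr {g : G} {s t : Nat → Nat} (hg : Tab ψ g s) (h : ∀ u, u < n → s u = t u) : Tab ψ g t :=
  fun u => (hg u).trans (h u u.2)

theorem Tab.eq_at {g : G} {s t : Nat → Nat} (hs : Tab ψ g s) (ht : Tab ψ g t) {u : Nat} (hu : u < n) :
    s u = t u := (hs ⟨u, hu⟩).symm.trans (ht ⟨u, hu⟩)

theorem Tab.lt {g : G} {s : Nat → Nat} (hs : Tab ψ g s) {u : Nat} (hu : u < n) : s u < n := by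
  have h := hs ⟨u, hu⟩
  simp only at h
  rw [← h]
  exact Fin.is_lt _

theorem Tab.ext (hinj : Function.Injective ψ) {g h : G} {t : Nat → Nat} (hg : Tab ψ g t) (hh : Tab ψ h t) :
    g = h := hinj (Equiv.ext fun u => Fin.ext ((hg u).trans (hh u).symm))

theorem Tab.inv {g : G} {t t' : Nat → Nat} (hg : Tab ψ g t) {d : Nat}
    (h : allBelow d n (CfsgLib.SporRecognition.CosetCert.invStep t t' n) = true) : Tab ψ g⁻¹ t' := fun u => by
  have h1 := allBelow_spec h _ (ψ g⁻¹ u).2
  simp only [CfsgLib.SporRecognition.CosetCert.invStep, Bool.and_eq_true] at h1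
  have e : ψ g (ψ g⁻¹ u) = u := by rw [← Equiv.Perm.mul_apply, ← map_mul, mul_inv_cancel, map_one]; rfl
  rw [← hg, e] at h1
  exact (Nat.eq_of_beq_eq_true h1.2).symm

theorem Tab.iter {g : G} {t : Nat → Nat} (hg : Tab ψ g t) :
    ∀ k : Nat, Tab ψ (g ^ k) (CfsgLib.SporRecognition.CosetCert.iter t k)
  | 0 => fun u => by simp
  | k + 1 => fun u => by
    rw [pow_succ, map_mul, Equiv.Perm.mul_apply, Tab.iter hg k, hg]
    rfl

theorem Fixes.mono {g : G} {pts pts' : List Nat} (h : Fixes ψ g pts) (hs : ∀ p ∈ pts', p ∈ pts) :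
    Fixes ψ g pts' := fun p hp => h p (hs p hp)

theorem Fixes.mul {g h : G} {pts : List Nat} (hg : Fixes ψ g pts) (hh : Fixes ψ h pts) :
    Fixes ψ (g * h) pts := fun p hp u hu => by
  rw [map_mul, Equiv.Perm.mul_apply, hh p hp u hu, hg p hp u hu]

theorem Fixes.one (pts : List Nat) : Fixes ψ (1 : G) pts := fun _ _ _ _ => by simp

theorem Fixes.of_tab {g : G} {t : Nat → Nat} (hg : Tab ψ g t) {pts : List Nat}
    (h : (pts.all fun p => Nat.beq (t p) p) = true) : Fixes ψ g pts := fun p hp u hu => by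
  apply Fin.ext
  rw [hg, hu]
  exact Nat.eq_of_beq_eq_true (List.all_eq_true.1 h p hp)

theorem Fixes.inv {g : G} {pts : List Nat} (hg : Fixes ψ g pts) : Fixes ψ g⁻¹ pts := fun p hp u hu => by
  conv_lhs => rw [← hg p hp u hu]
  rw [← Equiv.Perm.mul_apply, ← map_mul, inv_mul_cancel, map_one]
  rfl

variable (ψ) (H : Subgroup G)

/-- The pair is the table and inverse table of an element of `H` fixing the points. -/
def Real (pts : List Nat) (p : TPair) : Prop :=
  ∃ g ∈ H, Fixes ψ g pts ∧ Tab ψ g p.1 ∧ Tab ψ g⁻¹ p.2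

/-- A stabiliser chain below the points. -/
def Chain : List Level → List Nat → Prop
  | [], _ => True
  | L :: Ls, pts => L.orbOK n = true ∧ (∀ p ∈ L.gens, Real ψ H pts p) ∧ Chain Ls (pts ++ [L.b])

/-- The product of the orbit lengths. -/
def prodLen : List Level → Nat
  | [] => 1
  | L :: Ls => L.orb.length * prodLen Ls

/-- The elements that are products of transversal elements. -/
def Decomp : List Level → G → Prop
  | [], g => g = 1
  | L :: Ls, g => ∃ q ∈ L.orb, ∃ r h : G, Tab ψ r (L.rep L.depth q) ∧ Tab ψ r⁻¹ (L.repI L.depth q) ∧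
      g = r * h ∧ Decomp Ls h

variable {ψ H}

/-- A word of realised pairs gives a realised pair fixing further points. -/
theorem Real.new {prev pts : List Nat} {ps : List TPair} {t : TPair} (hps : ∀ p ∈ ps, Real ψ H prev p) {d : Nat}
    (heq : allBelow d n (fun u => Nat.beq (t.1 u) (trace (ps.map Prod.fst) u)) = true)
    (hinv : allBelow d n (CfsgLib.SporRecognition.CosetCert.invStep t.1 t.2 n) = true)
    (hfix : (pts.all fun p => Nat.beq (t.1 p) p) = true) : Real ψ H pts t := by
  have : ∃ g ∈ H, Tab ψ g (trace (ps.map Prod.fst)) := by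
    clear heq
    induction ps with
    | nil => exact ⟨1, H.one_mem, Tab.one⟩
    | cons p ps ih =>
      obtain ⟨g, hg, -, hgt, -⟩ := hps p (List.mem_cons_self ..)
      obtain ⟨h, hh, hht⟩ := ih fun q hq => hps q (List.mem_cons_of_mem _ hq)
      exact ⟨h * g, H.mul_mem hh hg, hht.mul hgt⟩
  obtain ⟨g, hg, hgt⟩ := this
  have ht : Tab ψ g t.1 := hgt.congr fun u hu => (Nat.eq_of_beq_eq_true (allBelow_spec heq u hu)).symm
  exact ⟨g, hg, Fixes.of_tab ht hfix, ht, ht.inv hinv⟩

theorem Real.symm {pts : List Nat} {t t' : Nat → Nat} (h : Real ψ H pts (t, t')) : Real ψ H pts (t', t) := by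
  obtain ⟨g, hg, hf, h1, h2⟩ := h
  exact ⟨g⁻¹, H.inv_mem hg, hf.inv, h2, by rw [inv_inv]; exact h1⟩

theorem Real.weaken {pts pts' : List Nat} {t : TPair} (h : Real ψ H pts t) (hs : ∀ p ∈ pts', p ∈ pts) :
    Real ψ H pts' t := by
  obtain ⟨g, hg, hf, h1, h2⟩ := h
  exact ⟨g, hg, hf.mono hs, h1, h2⟩

theorem Real.drop {pts : List Nat} {t : TPair} (h : Real ψ H pts t) : Real ψ H [] t :=
  h.weaken fun _ hp => absurd hp List.not_mem_nil

theorem exists_rep {L : Level} {pts : List Nat} (hgens : ∀ p ∈ L.gens, Real ψ H pts p) :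
    ∀ d q : Nat, ∃ r ∈ H, Fixes ψ r pts ∧ Tab ψ r (L.rep d q) ∧ Tab ψ r⁻¹ (L.repI d q)
  | 0, q => ⟨1, H.one_mem, Fixes.one _, Tab.one, by rw [inv_one]; exact Tab.one⟩
  | d + 1, q => by
    cases e : Nat.beq q L.b
    · obtain ⟨r, hr, hrf, hr1, hr2⟩ := exists_rep hgens d (L.src q)
      obtain ⟨s, hs, hsf, hs1, hs2⟩ : ∃ s ∈ H, Fixes ψ s pts ∧ Tab ψ s (pickF L.gens (L.via q)) ∧
          Tab ψ s⁻¹ (pickI L.gens (L.via q)) := by
        rcases pick_spec L.gens (L.via q) with ⟨p, hp, h⟩ | h
        · obtain ⟨g, hg, hgf, h1, h2⟩ := hgens p hp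
          exact ⟨g, hg, hgf, h1.congr fun u _ => (h u).1.symm, h2.congr fun u _ => (h u).2.symm⟩
        · refine ⟨1, H.one_mem, Fixes.one _, Tab.one.congr fun u _ => (h u).1.symm, ?_⟩
          rw [inv_one]
          exact Tab.one.congr fun u _ => (h u).2.symm
      refine ⟨s * r, H.mul_mem hs hr, hsf.mul hrf, (hs1.mul hr1).congr fun u _ => ?_, ?_⟩
      · show pickF L.gens (L.via q) (L.rep d (L.src q) u) = bif Nat.beq q L.b then u else _
        rw [e]
        rfl
      · rw [mul_inv_rev]
        refine (hr2.mul hs2).congr fun u _ => ?_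
        show L.repI d (L.src q) (pickI L.gens (L.via q) u) = bif Nat.beq q L.b then u else _
        rw [e]
        rfl
    · refine ⟨1, H.one_mem, Fixes.one _, Tab.one.congr fun u _ => ?_, ?_⟩
      · show u = bif Nat.beq q L.b then u else _
        rw [e]
        rfl
      · rw [inv_one]
        refine Tab.one.congr fun u _ => ?_
        show u = bif Nat.beq q L.b then u else _
        rw [e]
        rfl

theorem rep_base {L : Level} (q u : Nat) (h : q = L.b) : ∀ d, L.rep d q u = u
  | 0 => rfl
  | _ + 1 => by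
    show (bif Nat.beq q L.b then u else _) = u
    rw [h, Nat.beq_refl]
    rfl

/-- The products are distinct and lie in the stabiliser. -/
theorem exists_decomp_set [Finite G] : ∀ (Ls : List Level) (pts : List Nat), Chain ψ H Ls pts →
    ∃ S : Finset G, prodLen Ls ≤ S.card ∧ ∀ g ∈ S, g ∈ H ∧ Fixes ψ g pts ∧ Decomp ψ Ls g
  | [], pts, _ => ⟨{1}, by simp [prodLen], fun g hg => by
      rw [Finset.mem_singleton] at hg
      subst hg
      exact ⟨H.one_mem, Fixes.one _, rfl⟩⟩
  | L :: Ls, pts, ⟨horb, hgens, hrest⟩ => by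
    classical
    obtain ⟨S, hS, hSp⟩ := exists_decomp_set Ls (pts ++ [L.b]) hrest
    choose r hrH hrF hr1 hr2 using exists_rep (L := L) hgens L.depth
    simp only [Level.orbOK, Bool.and_eq_true] at horb
    obtain ⟨hb, hinc⟩ := horb
    have hb' : L.b < n := by simpa [Nat.blt_eq] using hb
    obtain ⟨hnd, hall⟩ := incAll_spec _ _ _ hinc
    refine ⟨(L.orb.toFinset ×ˢ S).image fun x => r x.1 * x.2, ?_, fun g hg => ?_⟩
    · rw [Finset.card_image_of_injOn, Finset.card_product, List.toFinset_card_of_nodup hnd]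
      · exact Nat.mul_le_mul_left _ hS
      · rintro ⟨q, h⟩ hx ⟨q', h'⟩ hx' e
        simp only [Finset.coe_product, Set.mem_prod, Finset.mem_coe, List.mem_toFinset] at hx hx'
        have key : ∀ q h, q ∈ L.orb → h ∈ S → ((ψ (r q * h) ⟨L.b, hb'⟩ : Fin n) : Nat) = q := by
          intro q h hq hh
          have := (hall q hq).2
          simp only [Bool.and_eq_true] at this
          rw [map_mul, Equiv.Perm.mul_apply, (hSp h hh).2.1 L.b (by simp) ⟨L.b, hb'⟩ rfl, hr1]
          exact Nat.eq_of_beq_eq_true this.2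
        simp only at e
        have hq : q = q' := by rw [← key q h hx.1 hx.2, e, key q' h' hx'.1 hx'.2]
        subst hq
        exact Prod.ext rfl (mul_left_cancel e)
    · simp only [Finset.mem_image, Finset.mem_product, List.mem_toFinset] at hg
      obtain ⟨⟨q, h⟩, ⟨hq, hh⟩, rfl⟩ := hg
      obtain ⟨hH, hF, hD⟩ := hSp h hh
      exact ⟨H.mul_mem (hrH q) hH, (hrF q).mul (hF.mono fun p hp => List.mem_append_left _ hp),
        q, hq, r q, h, hr1 q, hr2 q, rfl, hD⟩

/-- A chain of full order covers the group. -/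
theorem decomp_all [Finite G] {Ls : List Level} (hc : Chain ψ H Ls []) (hN : Nat.card G ≤ prodLen Ls) :
    H = ⊤ ∧ ∀ g, Decomp ψ Ls g := by
  obtain ⟨S, hS, hSp⟩ := exists_decomp_set Ls [] hc
  have : Fintype G := Fintype.ofFinite G
  have hu : S = Finset.univ := Finset.eq_univ_of_card _
    (le_antisymm (Finset.card_le_univ S) (by rw [← Nat.card_eq_fintype_card]; exact hN.trans hS))
  exact ⟨eq_top_iff.2 fun g _ => (hSp g (hu ▸ Finset.mem_univ g)).1, fun g => (hSp g (hu ▸ Finset.mem_univ g)).2.2⟩

/-- Products of transversal elements fix the earlier points. -/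
theorem decomp_fixes (hinj : Function.Injective ψ) : ∀ (Ls : List Level) (pts : List Nat), Chain ψ H Ls pts →
    ∀ g, Decomp ψ Ls g → Fixes ψ g pts
  | [], pts, _, g, hg => by
    rw [show g = 1 from hg]
    exact Fixes.one _
  | L :: Ls, pts, ⟨_, hgens, hrest⟩, g, hg => by
    obtain ⟨q, -, r, h, hr, -, rfl, hh⟩ := hg
    obtain ⟨r', -, hrF, hr', -⟩ := exists_rep (L := L) hgens L.depth q
    rw [Tab.ext hinj hr hr']
    exact hrF.mul ((decomp_fixes hinj Ls _ hrest h hh).mono fun p hp => List.mem_append_left _ hp)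

/-- Such a product fixing the whole base is trivial. -/
theorem decomp_eq_one (hinj : Function.Injective ψ) : ∀ (Ls : List Level) (pts : List Nat), Chain ψ H Ls pts →
    ∀ g, Decomp ψ Ls g → Fixes ψ g (Ls.map Level.b) → g = 1
  | [], _, _, _, hg, _ => hg
  | L :: Ls, pts, ⟨horb, hgens, hrest⟩, g, hg, hfix => by
    obtain ⟨q, hq, r, h, hr, -, rfl, hh⟩ := hg
    simp only [Level.orbOK, Bool.and_eq_true] at horb
    have hb' : L.b < n := by simpa [Nat.blt_eq] using horb.1
    have hhb : ψ h ⟨L.b, hb'⟩ = ⟨L.b, hb'⟩ :=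
      decomp_fixes hinj Ls _ hrest h hh L.b (by simp) ⟨L.b, hb'⟩ rfl
    have hqb : q = L.b := by
      have h1 : (r : G) = r := rfl
      have hgb := hfix L.b (by simp) ⟨L.b, hb'⟩ rfl
      rw [map_mul, Equiv.Perm.mul_apply, hhb] at hgb
      have h2 := hr ⟨L.b, hb'⟩
      rw [hgb] at h2
      have h3 := ((incAll_spec _ _ _ horb.2).2 q hq).2
      simp only [Bool.and_eq_true] at h3
      exact (Nat.eq_of_beq_eq_true h3.2).symm.trans h2.symm
    have hr1 : r = 1 := Tab.ext hinj hr (Tab.one.congr fun u _ => (rep_base q u hqb L.depth).symm)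
    rw [hr1, one_mul] at hfix ⊢
    exact decomp_eq_one hinj Ls _ hrest h hh (hfix.mono fun p hp => List.mem_cons_of_mem _ hp)

end CfsgLib.OutPresented
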